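import Cfsg.Agent.BlockChar.Cyclic.Transport
import Cfsg.Agent.Blocks.Star.Watanabe

/-!
# Free inertial action and nilpotent local blocks
-/

set_option autoImplicit false

namespace Cfsg.Agent.BlockChar.AbelianFree

open Cfsg.Agent Cfsg.Agent.Blocks Cfsg.Agent.BrauerPairs Cfsg.Agent.BlockChar

universe u

variable {G : Type u} [Group G] [Finite G] {p : ℕ} {M : Ideal Cfsg.AlgInt}

local notation "CG[" Q "]" => Subgroup.centralizer (SetLike.coe Q)

/-- Induction in the group `K` seen inside `G`. -/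
theorem isInducedBlockIn_of_resBlock {K P : Subgroup G} (hPK : P ≤ K) (hCK : CG[P] ≤ K)
    {c : Set (Cfsg.IrrCharacter CG[P])} {f : Set (Cfsg.IrrCharacter K)} (hc : Cfsg.IsPBlock M c)
    (h : Cfsg.IsInducedBlock M CG[P.subgroupOf K] (resBlock hPK hCK c) f) :
    Cfsg.IsInducedBlockIn M K CG[P] c f := by
  refine ⟨hc, h.2.1, fun ξ hξ χ hχ k => ?_⟩
  have hmem : compIrr (centIso hPK hCK) ξ ∈ resBlock hPK hCK c := by
    show compIrr (centIso hPK hCK).symm (compIrr (centIso hPK hCK) ξ) ∈ c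
    convert hξ using 1
    exact Subtype.ext (funext fun b => by simp [compIrr])
  have h1 := h.2.2 _ hmem χ hχ k
  convert h1 using 2
  congr 1
  rw [Cfsg.inducedCentralChar, Cfsg.inducedCentralCharIn]
  symm
  refine finsum_mem_eq_of_bijOn (centIso hPK hCK) ⟨fun a ha => ?_,
    (centIso hPK hCK).injective.injOn, fun b hb => ?_⟩ fun a _ => ?_
  · obtain ⟨x, hx⟩ := isConj_iff.1 (show IsConj k (a : K) from ha)
    refine ⟨x⁻¹, ?_⟩
    show ((x⁻¹ : K) : G) * ((a : K) : G) * ((x⁻¹ : K) : G)⁻¹ = (k : G)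
    rw [← hx]
    simp [mul_assoc]
  · obtain ⟨x, hx⟩ := hb
    refine ⟨(centIso hPK hCK).symm b, ?_, MulEquiv.apply_symm_apply _ b⟩
    show IsConj k (((centIso hPK hCK).symm b : _) : K)
    refine isConj_iff.2 ⟨x⁻¹, Subtype.ext ?_⟩
    show ((x⁻¹ : K) : G) * (k : G) * ((x⁻¹ : K) : G)⁻¹ = (b : G)
    rw [← hx]
    simp [mul_assoc]
  · rw [compIrr_apply, compIrr_apply, map_one]

/-- An element of `K` stabilizing the pair stabilizes the pair read in `K`. -/
theorem local_stab_of_stab (hM : Cfsg.IsPModular p M) {D K : Subgroup G}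
    {c : Set (Cfsg.IrrCharacter CG[D])} (hc : Cfsg.IsPBlock M c) (hDK : D ≤ K) (hCK : CG[D] ≤ K)
    (g : K) (hgN : (g : G) ∈ Subgroup.normalizer (D : Set G))
    (hst : Cfsg.StabilizesBlock CG[D] c (g : G)) :
    g ∈ Subgroup.normalizer ((D.subgroupOf K : Subgroup K) : Set K) ∧
      Cfsg.StabilizesBlock (Subgroup.centralizer ((D.subgroupOf K : Subgroup K) : Set K))
        (resBlock hDK hCK c) g := by
  have hfix := (conjPair_eq_iff hM hc (g : G)).2 ⟨hgN, hst⟩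
  have hgN' : g ∈ Subgroup.normalizer ((D.subgroupOf K : Subgroup K) : Set K) :=
    Subgroup.mem_normalizer_iff.2 fun z => by
      simpa [Subgroup.mem_subgroupOf] using Subgroup.mem_normalizer_iff.1 hgN (z : G)
  refine (conjPair_eq_iff hM (isPBlock_resBlock hDK hCK hc) g).1
    (idx_ext (map_conj_eq hgN') fun z => ?_)
  rw [sbc_conjPair]
  show Cfsg.subgroupBlockCoeff _ (resBlock hDK hCK c) (g⁻¹ * z * g) =
    Cfsg.subgroupBlockCoeff _ (resBlock hDK hCK c) z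
  rw [sbc_resBlock, sbc_resBlock]
  have h := sbc_conjPair (g : G) (⟨D, c⟩ : Cfsg.BrauerPairIdx G) (z : G)
  rw [hfix] at h
  exact h.symm

/-- The stabilizer of the pair acts freely exactly when the local blocks are nilpotent. -/
theorem free_iff_nilpotent (hM : Cfsg.IsPModular p M) {B : Set (Cfsg.IrrCharacter G)}
    {P : Subgroup G} (hPD : Cfsg.IsDefectGroup p M B P) (hab : ∀ x ∈ P, ∀ y ∈ P, x * y = y * x)
    {c : Set (Cfsg.IrrCharacter CG[P])} (hc : Cfsg.IsInducedBlock M CG[P] c B) (T : Subgroup G)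
    (hT : ∀ g : G, g ∈ T ↔ (g ∈ Subgroup.normalizer (P : Set G) ∧
      Cfsg.StabilizesBlock CG[P] c g)) :
    (∀ g ∈ T, ∀ x ∈ P, x ≠ 1 → g * x * g⁻¹ = x → g ∈ CG[P]) ↔
      ∀ Q : Subgroup G, Q ≤ P → Q ≠ ⊥ → ∀ f : Set (Cfsg.IrrCharacter CG[Q]),
        Cfsg.IsInducedBlockIn M CG[Q] CG[P] c f → Cfsg.IsNilpotentBlock p M f := by
  classical
  have := Fact.mk hM.1
  letI := Fintype.ofFinite G
  have hmax := Cyclic.maximal_of_isInducedBlock hM hPD hc
  have hPC : ∀ {Q : Subgroup G}, Q ≤ P → P ≤ CG[Q] := fun hQ x hx =>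
    Subgroup.mem_centralizer_iff.2 fun y hy => hab y (hQ hy) x hx
  have key : ∀ {Q : Subgroup G} (hQ : Q ≤ P) {f : Set (Cfsg.IrrCharacter CG[Q])},
      Cfsg.IsNormalSubpair p M Q f P c →
      (Cfsg.IsNilpotentBlock p M f ↔ ∀ g ∈ T, g ∈ CG[Q] → g ∈ CG[P]) ∧
        Cfsg.IsInducedBlockIn M CG[Q] CG[P] c f ∧
        ∀ f', Cfsg.IsInducedBlockIn M CG[Q] CG[P] c f' → f' = f := by
    intro Q hQ f hn
    have hPK := hPC hQ
    have hCK : CG[P] ≤ CG[Q] := Subgroup.centralizer_le hQ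
    have hmaxK := Cyclic.maximal_local hM hmax hn hPK hCK
    refine ⟨?_, isInducedBlockIn_of_resBlock hPK hCK hmax.1.1.2
      (isInducedBlock_of_pair hM hmaxK.1), fun f' hf' => block_unique hM
        (pair_of_isInducedBlock hM hmaxK.1.1.1 (Cyclic.isInducedBlock_resBlock hPK hCK hf'))
        hmaxK.1⟩
    rw [nilpotent_iff_of_abelian hM hmaxK fun x hx y hy => Subtype.ext (hab _ hx _ hy)]
    constructor
    · intro h g hgT hgC
      obtain ⟨h1, h2⟩ := local_stab_of_stab hM hmax.1.1.2 hPK hCK ⟨g, hgC⟩ ((hT g).1 hgT).1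
        ((hT g).1 hgT).2
      have h3 := h ⟨g, hgC⟩ h1 h2
      exact Subgroup.mem_centralizer_iff.2 fun u hu =>
        congrArg Subtype.val (Subgroup.mem_centralizer_iff.1 h3 ⟨u, hPK hu⟩ hu)
    · intro h g hgN hgst
      obtain ⟨h1, h2⟩ := Cyclic.stab_of_local_stab hM hmax.1.1.2 hPK hCK hgN hgst
      refine Subgroup.mem_centralizer_iff.2 fun u hu => Subtype.ext ?_
      exact Subgroup.mem_centralizer_iff.1 (h g ((hT _).2 ⟨h1, h2⟩) g.2) (u : G) hu
  constructor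
  · intro hfree Q hQ hQ1 f hf
    obtain ⟨f₀, hf₀⟩ := (existsUnique_subpairLE hM hmax.1.1 hQ).exists
    obtain ⟨hiff, -, huniq⟩ := key hQ (Blocks.Star.normal_of_le hM hmax hab hf₀)
    obtain ⟨x, hxQ, hx1⟩ := Q.bot_or_exists_ne_one.resolve_left hQ1
    rw [huniq f hf]
    refine hiff.2 fun g hgT hgC => hfree g hgT x (hQ hxQ) hx1 ?_
    rw [← Subgroup.mem_centralizer_iff.1 hgC x hxQ, mul_inv_cancel_right]
  · intro h g hgT x hx hx1 hfix
    have hQ : Subgroup.zpowers x ≤ P := Subgroup.zpowers_le.2 hx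
    obtain ⟨f₀, hf₀⟩ := (existsUnique_subpairLE hM hmax.1.1 hQ).exists
    obtain ⟨hiff, hind, -⟩ := key hQ (Blocks.Star.normal_of_le hM hmax hab hf₀)
    refine hiff.1 (h _ hQ (fun e => hx1 (Subgroup.zpowers_eq_bot.1 e)) f₀ hind) g hgT ?_
    have hcomm : Commute g x := mul_inv_eq_iff_eq_mul.1 hfix
    rw [Subgroup.mem_centralizer_iff]
    rintro _ ⟨i, rfl⟩
    exact (hcomm.zpow_right i).eq.symm

end Cfsg.Agent.BlockChar.AbelianFree
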